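import Groth.Agent.L25.RedField.WeylInvariant
import Groth.Agent.L14.Luna.Cor
import Groth.Agent.L14.RedLR.Main
import Groth.Agent.L15.GenSub.Dom
import Groth.Agent.L19.SpecSub.Props
import Groth.Agent.L25.SmoothUnit
import Groth.Agent.S4121
import Groth.Agent.L08.Borel.MaxTorusDesc

/-!
# Reductivity does not depend on the algebraically closed field

A normal connected subgroup without subtori over the larger field lies in every Borel subgroup; a minimal smooth
connected solvable subgroup over the smaller field capturing it lies in all Borel subgroups, so it is a torus.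
-/

set_option autoImplicit false
set_option backward.isDefEq.respectTransparency.types false
set_option linter.style.haveILetI false
set_option maxHeartbeats 1000000

universe u

open CategoryTheory CategoryTheory.Limits MonoidalCategory CartesianMonoidalCategory MonObj GrpObj AlgebraicGeometry
open Groth.L08.Borel Groth.L14.Luna

noncomputable section

namespace Groth.L24.ReductiveBC

variable {k K : Type u} [Field k] [IsAlgClosed k] [Field K] [IsAlgClosed K]
  (θ : Spec (CommRingCat.of K) ⟶ Spec (CommRingCat.of k))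

local notation "SK" => Spec (CommRingCat.of k)
local notation "U1" => 𝟙_ (Over (Spec (CommRingCat.of k)))

/-- A normal subgroup without subtori lies in the base change of every Borel subgroup. -/
theorem normal_le_borel_bc {G B : Over SK} [GrpObj G] [GrpObj B] [IsAffine G.left] [Smooth G.hom]
    [ConnectedSpace G.left] {iB : B ⟶ G} (hB : Red.IsBorelOver k iB) {N : Over (Spec (CommRingCat.of K))} [GrpObj N]
    (n : N ⟶ Red.bc θ G) [IsMonHom n] [IsClosedImmersion n.left] (hn : AlgGrp.IsNormalHom n) [Smooth N.hom]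
    [ConnectedSpace N.left] (hns : Red.HasNoSubtorus K N) :
    ∃ f : N ⟶ Red.bc θ B, f ≫ (Over.pullback θ).map iB = n := by
  haveI := hB.1; haveI := hB.2.1
  haveI : Mono iB := Over.mono_of_mono_left iB
  haveI := Groth.L08.Borel.smooth_bc θ G
  haveI := Groth.L08.Borel.isAffine_bc θ G
  haveI : IsAffine N.left := isAffine_of_isAffineHom n.left
  haveI : LocallyOfFiniteType (Red.bc θ G).hom := inferInstance
  haveI : LocallyOfFiniteType N.hom := inferInstance
  haveI : IsReduced N.left := Groth.Agent.AV.isReduced_of_smooth_field N.hom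
  haveI : IsMonHom ((Over.pullback θ).map iB) := Groth.L25.MonoClosed.isMonHom_pullbackMap _ _
  haveI : IsClosedImmersion ((Over.pullback θ).map iB).left := Groth.L08.Borel.isClosedImmersion_map θ iB
  obtain ⟨X, a, o, hX⟩ := exists_isQuotient iB
  haveI := isProper_quotient_of_borel hB hX
  haveI : IsProper (Red.bc θ X).hom := MorphismProperty.pullback_snd X.hom θ ‹IsProper X.hom›
  obtain ⟨g, φ, hφ⟩ := exists_conj_factor n (isSolvableGrp_of_noSubtorus N hns) (isQuotient_bc θ hX)
  refine exists_lift_of_points _ n fun x => ?_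
  obtain ⟨x', hx'⟩ := hn _ g⁻¹ x
  refine ⟨x' ≫ φ, ?_⟩
  rw [Category.assoc, hφ, pt_conjBy, ← hx', _root_.inv_inv]
  group

/-- Intersecting a capturing subgroup with a subgroup keeps a capturing smooth connected subgroup. -/
theorem exists_capture_inter {G H B : Over SK} [GrpObj G] [GrpObj H] [GrpObj B] [LocallyOfFiniteType G.hom]
    (i : H ⟶ G) [IsMonHom i] [IsClosedImmersion i.left] (iB : B ⟶ G) [IsMonHom iB] [IsClosedImmersion iB.left]
    {U : Over (Spec (CommRingCat.of K))} [GrpObj U] [IsReduced U.left] [ConnectedSpace U.left]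
    (u : U ⟶ Red.bc θ G) [IsMonHom u] (q : U ⟶ Red.bc θ H) (hq : q ≫ (Over.pullback θ).map i = u)
    (r : U ⟶ Red.bc θ B) (hr : r ≫ (Over.pullback θ).map iB = u) :
    ∃ (H' : Over SK) (_ : GrpObj H') (j : H' ⟶ H), IsMonHom j ∧ IsClosedImmersion j.left ∧ Smooth H'.hom ∧
      ConnectedSpace H'.left ∧ (∃ b : H' ⟶ B, b ≫ iB = j ≫ i) ∧
      ∃ q' : U ⟶ Red.bc θ H', q' ≫ (Over.pullback θ).map (j ≫ i) = u := by
  let F := Over.pullback θ
  haveI : Mono i := Over.mono_of_mono_left i
  haveI : Mono iB := Over.mono_of_mono_left iB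
  have hpb : IsPullback (pullback.fst i iB) (pullback.snd i iB) i iB := IsPullback.of_hasPullback i iB
  obtain ⟨gD, hD⟩ := exists_grpObj_pullback hpb
  letI := gD
  haveI := hD
  haveI : IsClosedImmersion (pullback.fst i iB).left :=
    MorphismProperty.of_isPullback (P := @IsClosedImmersion) (hpb.map (Over.forget _)).flip ‹IsClosedImmersion iB.left›
  haveI : LocallyOfFiniteType H.hom := by rw [← Over.w i]; infer_instance
  haveI : LocallyOfFiniteType (pullback i iB).hom := by rw [← Over.w (pullback.fst i iB)]; infer_instance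
  obtain ⟨q₁, hq₁, -⟩ := (hpb.map F).exists_lift q r (hq.trans hr.symm)
  obtain ⟨R, gR, jR, hjR, hjRc, hRs, hRsurj, -⟩ := exists_red_subgroup (pullback i iB)
  haveI := hjR; haveI := hjRc; haveI := hRs; haveI := hRsurj
  haveI : IsClosedImmersion (F.map jR).left := Groth.L08.Borel.isClosedImmersion_map θ jR
  haveI : Surjective (F.map jR).left := Groth.L08.Borel.surjective_map θ jR
  haveI : IsMonHom (F.map jR) := Groth.L25.MonoClosed.isMonHom_pullbackMap _ _
  obtain ⟨l₂, hl₂⟩ := Groth.L15.GenSub.exists_lift_of_range (F.map jR).left q₁.left fun x _ =>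
    (F.map jR).left.surjective x
  let q₂ : U ⟶ Red.bc θ R := Over.homMk l₂ (by rw [← Over.w (F.map jR), reassoc_of% hl₂, Over.w q₁])
  have hq₂ : q₂ ≫ F.map jR = q₁ := Over.OverMorphism.ext hl₂
  obtain ⟨H', gH', j₀, hj₀⟩ := Groth.L08.Chev.exists_idComp R
  haveI := hj₀.hom; haveI := hj₀.closedImm
  haveI : ConnectedSpace H'.left := hj₀.connectedSpace
  haveI : Smooth H'.hom := hj₀.smooth
  haveI : IsClosedImmersion (F.map j₀).left := Groth.L08.Borel.isClosedImmersion_map θ j₀
  let j : H' ⟶ H := j₀ ≫ jR ≫ pullback.fst i iB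
  haveI : IsMonHom j := inferInstanceAs (IsMonHom (_ ≫ _ ≫ _))
  haveI : IsClosedImmersion j.left := inferInstanceAs (IsClosedImmersion (_ ≫ _ ≫ _))
  -- the point at the unit
  have hone : (1 : 𝟙_ _ ⟶ U) ≫ q₂ = 1 := by
    haveI : IsMonHom (F.map i) := Groth.L25.MonoClosed.isMonHom_pullbackMap _ _
    haveI : IsMonHom (F.map (pullback.fst i iB)) := Groth.L25.MonoClosed.isMonHom_pullbackMap _ _
    haveI : Mono (F.map (pullback.fst i iB) ≫ F.map i) := mono_comp _ _
    haveI : Mono (F.map jR) := Over.mono_of_mono_left _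
    rw [← cancel_mono (F.map jR), Category.assoc, hq₂, ← cancel_mono (F.map (pullback.fst i iB) ≫ F.map i)]
    simp only [Category.assoc, MonObj.one_comp]
    rw [reassoc_of% hq₁, hq, MonObj.one_comp]
  let p := (Red.bc θ R).hom
  let π : (Red.bc θ R).left ⟶ R.left := pullback.fst R.hom θ
  have hsub : Set.range q₂.left ⊆ π ⁻¹' connectedComponent (Groth.L25.Component.one R) := by
    let z : U.left := (1 : 𝟙_ (Over (Spec (CommRingCat.of K))) ⟶ U).left (IsLocalRing.closedPoint K)
    have hz : π (q₂.left z) = Groth.L25.Component.one R := by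
      show (((1 : 𝟙_ (Over (Spec (CommRingCat.of K))) ⟶ U) ≫ q₂).left ≫ π) (IsLocalRing.closedPoint K) = _
      rw [hone, ← MonObj.one_eq_one]
      exact (congr(($(Groth.L25.SmoothUnit.eta_bc_fst θ R)) (IsLocalRing.closedPoint K))).trans
        (congrArg η[R].left (Subsingleton.elim (α := PrimeSpectrum k) _ _))
    rintro _ ⟨x, rfl⟩
    show π (q₂.left x) ∈ connectedComponent _
    rw [← hz]
    exact (isPreconnected_range (π.continuous.comp q₂.left.continuous)).subset_connectedComponent ⟨z, rfl⟩ ⟨x, rfl⟩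
  obtain ⟨l₃, hl₃⟩ := Groth.L15.GenSub.exists_lift_of_range (F.map j₀).left q₂.left fun x hx => by
    have hx' := hsub hx
    rw [Set.mem_preimage, ← hj₀.range] at hx'
    obtain ⟨y, hy⟩ := hx'
    obtain ⟨w, hw, -⟩ := Scheme.exists_preimage_of_isPullback (isPullback_bc_map' θ j₀) x y hy.symm
    exact ⟨w, hw⟩
  let q₃ : U ⟶ Red.bc θ H' := Over.homMk l₃ (by rw [← Over.w (F.map j₀), reassoc_of% hl₃, Over.w q₂])
  have hq₃ : q₃ ≫ F.map j₀ = q₂ := Over.OverMorphism.ext hl₃
  refine ⟨H', gH', j, inferInstance, inferInstance, inferInstance, inferInstance,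
    ⟨j₀ ≫ jR ≫ pullback.snd i iB, by simp only [j, Category.assoc, hpb.w]⟩, q₃, ?_⟩
  simp only [j, F, Functor.map_comp, Category.assoc]
  rw [reassoc_of% hq₃, reassoc_of% hq₂, reassoc_of% hq₁, hq]

/-- **Reductivity over an algebraically closed field persists in any larger one.** -/
theorem isReductiveOver_bc {G : Over SK} [GrpObj G] (hG : Red.IsReductiveOver k G) :
    Red.IsReductiveOver K (Red.bc θ G) := by
  haveI := hG.1; haveI := hG.2.1; haveI := hG.2.2.1
  haveI := Groth.L08.Borel.smooth_bc θ G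
  haveI := Groth.L08.Borel.isAffine_bc θ G
  haveI := Groth.L08.Borel.connectedSpace_bc' θ G
  haveI : LocallyOfFiniteType G.hom := inferInstance
  haveI : IsLocallyNoetherian G.left := LocallyOfFiniteType.isLocallyNoetherian G.hom
  haveI : IsNoetherian G.left := ⟨⟩
  refine ⟨inferInstance, inferInstance, inferInstance, fun U _ u _ huc hUs hUc hn hns => ?_⟩
  haveI := huc; haveI := hUs; haveI := hUc
  haveI : Mono u := Over.mono_of_mono_left u
  haveI : IsAffine U.left := isAffine_of_isAffineHom u.left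
  haveI : IsReduced U.left := Groth.Agent.AV.isReduced_of_smooth_field U.hom
  -- the capturing subgroups
  let P : TopologicalSpace.Closeds G.left → Prop := fun Z =>
    ∃ (H : Over SK) (_ : GrpObj H) (i : H ⟶ G), IsMonHom i ∧ IsClosedImmersion i.left ∧ Smooth H.hom ∧
      ConnectedSpace H.left ∧ Red.IsSolvableGrp H ∧ (∃ q : U ⟶ Red.bc θ H, q ≫ (Over.pullback θ).map i = u) ∧
      Set.range i.left = Z
  obtain ⟨B₀, gB₀, iB₀, hB₀⟩ := exists_borel G
  haveI := hB₀.1; haveI := hB₀.2.1
  have hP₀ : P ⟨Set.range iB₀.left, iB₀.left.isClosedEmbedding.isClosed_range⟩ :=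
    ⟨B₀, gB₀, iB₀, hB₀.1, hB₀.2.1, hB₀.2.2.1, hB₀.2.2.2.1, hB₀.2.2.2.2.1,
      normal_le_borel_bc θ hB₀ u hn hns, rfl⟩
  obtain ⟨Z, ⟨H, gH, i, hi, hic, hHs, hHc, hHsol, ⟨q, hq⟩, hrange⟩, hmin⟩ :=
    (inferInstance : WellFoundedLT (TopologicalSpace.Closeds G.left)).wf.has_min {Z | P Z} ⟨_, hP₀⟩
  haveI := hi; haveI := hic; haveI := hHs; haveI := hHc
  haveI : Mono i := Over.mono_of_mono_left i
  haveI : IsAffine H.left := isAffine_of_isAffineHom i.left
  haveI : IsReduced H.left := Groth.Agent.AV.isReduced_of_smooth_field H.hom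
  have hle : ∀ (B : Over SK) [GrpObj B] (iB : B ⟶ G), Red.IsBorelOver k iB → ∃ b : H ⟶ B, b ≫ iB = i := by
    intro B _ iB hB
    haveI := hB.1; haveI := hB.2.1
    obtain ⟨r, hr⟩ := normal_le_borel_bc θ hB u hn hns
    obtain ⟨H', gH', j, hj, hjc, hH's, hH'c, ⟨b, hb⟩, q', hq'⟩ := exists_capture_inter θ i iB u q hq r hr
    haveI := hj; haveI := hjc
    haveI : Mono j := Over.mono_of_mono_left j
    have hsol' : Red.IsSolvableGrp H' := by
      obtain ⟨m, hm⟩ := hHsol
      exact ⟨m, fun X => Groth.Agent.S18082.der_eq_bot (Groth.L19.SpecSub.postcomp j X)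
        (fun x y h => (cancel_mono j).1 h) (hm X)⟩
    haveI : IsClosedImmersion (j ≫ i).left := inferInstanceAs (IsClosedImmersion (j.left ≫ i.left))
    let Z' : TopologicalSpace.Closeds G.left := ⟨_, (j ≫ i).left.isClosedEmbedding.isClosed_range⟩
    have hle' : Z' ≤ Z := by
      show Set.range (j ≫ i).left ⊆ (Z : Set G.left)
      rw [← hrange, Over.comp_left, Scheme.Hom.comp_base, TopCat.coe_comp]
      exact Set.range_comp_subset_range _ _
    have hZ : Z' = Z := hle'.eq_of_not_lt
      (hmin Z' ⟨H', gH', j ≫ i, inferInstance, inferInstance, hH's, hH'c, hsol', ⟨q', hq'⟩, rfl⟩)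
    obtain ⟨l, hl⟩ := Groth.L15.GenSub.exists_lift_of_range (j ≫ i).left i.left
      (by rw [hrange]; exact (congrArg SetLike.coe hZ).ge)
    exact ⟨(Over.homMk l (by rw [← Over.w (j ≫ i), reassoc_of% hl, Over.w i]) : H ⟶ H') ≫ b, by
      rw [Category.assoc, hb]; exact Over.OverMorphism.ext hl⟩
  obtain ⟨T, gT, iT, p, V, gV, v, him, himono, hT, hp, hip, hV, -, huniv⟩ := exists_retraction_radical H hHsol
  obtain ⟨hvm, hvc, -, hvs, hvcon, hvns⟩ := unipotentRadical_data hV
  haveI := him; haveI := himono; haveI := hp; haveI := hvm; haveI := hvc; haveI := hvs; haveI := hvcon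
  haveI : IsClosedImmersion (v ≫ i).left := inferInstanceAs (IsClosedImmersion (v.left ≫ i.left))
  haveI : IsMonHom (v ≫ i) := inferInstance
  haveI : QuasiCompact G.hom := quasiCompact_of_compactSpace _
  obtain ⟨T₀, gT₀, iT₀, hT₀'⟩ := Groth.Agent.S4121.result k G
  have hT₀ := Groth.L08.Borel.isMaxTorus_of_isMaximalTorus hT₀'
  have hv1 : v ≫ i = 1 := eq_one_of_borels hG hT₀ (v ≫ i) hvns fun B _ iB t hB _ => by
    obtain ⟨b, hb⟩ := hle B iB hB
    exact ⟨v ≫ b, by rw [Category.assoc, hb]⟩
  haveI : Mono p := ⟨fun {Y} a b e => by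
    obtain ⟨y', hy'⟩ := huniv Y (a * b⁻¹) (by rw [MonObj.mul_comp, GrpObj.inv_comp, e, mul_inv_cancel])
    rw [← mul_inv_eq_one, ← hy', ← cancel_mono i, Category.assoc, hv1, MonObj.comp_one, MonObj.one_comp]⟩
  have hpi : p ≫ iT = 𝟙 H := by rw [← cancel_mono p, Category.assoc, hip, Category.comp_id, Category.id_comp]
  haveI : IsIso iT := ⟨p, hip, hpi⟩
  have hH : Red.IsTorus H := Groth.L25.TorLift.isTorus_of_iso (Grp.mkIso' (asIso iT)) hT
  haveI : IsMonHom ((Over.pullback θ).map i) := Groth.L25.MonoClosed.isMonHom_pullbackMap _ _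
  haveI : Mono ((Over.pullback θ).map i) := Functor.map_mono _ _
  haveI : IsMonHom q := isMonHom_of_comp_mono q ((Over.pullback θ).map i) u hq
  have hq1 : q = 1 := hom_torus_eq_one (isSolvableGrp_of_noSubtorus U hns) hns (Groth.L25.Locus.isTorus_bc hH θ) q
  have hu1 : u = 1 := by rw [← hq, hq1, MonObj.one_comp]
  refine isTrivialGrp_of_id_eq_one ?_
  rw [← cancel_mono u, Category.id_comp, MonObj.one_comp]
  exact hu1

end Groth.L24.ReductiveBC

namespace Groth.L24.ReductiveBC

open Groth.L25.LimHom in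
/-- **The geometric fibres of a reductive group over a field are reductive.** -/
theorem isReductiveOver_point {k : Type u} [Field k] {G : Over (Spec (CommRingCat.of k))} [GrpObj G]
    (hG : Red.IsReductive G) {K : Type u} [Field K] [IsAlgClosed K]
    (θ : Spec (CommRingCat.of K) ⟶ Spec (CommRingCat.of k)) : Red.IsReductiveOver K (Red.bc θ G) := by
  let s : ↥(Spec (CommRingCat.of k)) := IsLocalRing.closedPoint k
  let K₀ := AlgebraicClosure ((Spec (CommRingCat.of k)).residueField s)
  obtain ⟨ψ, hψ⟩ : ∃ ψ : CommRingCat.of k ⟶ (Spec (CommRingCat.of k)).residueField s,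
      Spec.map ψ = (Spec (CommRingCat.of k)).fromSpecResidueField s :=
    ⟨Spec.preimage _, Spec.map_preimage _⟩
  have hψf : ψ.hom.Finite := by
    haveI : IsPreimmersion (Spec.map ψ) := hψ.symm ▸ inferInstance
    haveI hc : IsClosedImmersion (Spec.map ψ) := .of_isPreimmersion _ (by
      haveI : Subsingleton ↥(Spec (CommRingCat.of k)) := inferInstanceAs (Subsingleton (PrimeSpectrum k))
      exact isClosed_discrete _)
    exact (IsFinite.SpecMap_iff (f := ψ)).1 inferInstance
  letI : Algebra k ((Spec (CommRingCat.of k)).residueField s) := ψ.hom.toAlgebra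
  haveI : Module.Finite k ((Spec (CommRingCat.of k)).residueField s) := hψf
  haveI : Algebra.IsAlgebraic k K₀ := Algebra.IsAlgebraic.trans k ((Spec (CommRingCat.of k)).residueField s) K₀
  letI : Algebra k K := (Spec.preimage θ).hom.toAlgebra
  let φ : K₀ →ₐ[k] K := IsAlgClosed.lift
  have hθ : Spec.map (CommRingCat.ofHom φ.toRingHom) ≫ Red.geomPt s = θ := by
    rw [Red.geomPt, ← hψ, ← Spec.map_comp, ← Spec.map_comp, ← Spec.map_preimage θ]
    congr 1
    refine CommRingCat.hom_ext (RingHom.ext fun x => ?_)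
    show φ (algebraMap _ K₀ (ψ.hom x)) = _
    rw [show algebraMap _ K₀ (ψ.hom x) = algebraMap k K₀ x from (IsScalarTower.algebraMap_apply k _ K₀ x).symm,
      φ.commutes]
    rfl
  haveI := isMonHom_cmp hθ G
  exact Groth.L14.RedLR.isReductiveOver_congr (Grp.mkIso' (cmp hθ G))
    (isReductiveOver_bc (Spec.map (CommRingCat.ofHom φ.toRingHom)) (hG.2.2 s))

end Groth.L24.ReductiveBC
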